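import Groth.Agent.IntSh.K879.ProjB
import Groth.Agent.Vancyc.H175.Leray
import Groth.Agent.Vancyc.H175.AltLine
import Groth.Agent.Krr.H483.PBTop
import Groth.Agent.Krr.H490.PBExist
import Groth.Agent.S3796
import Groth.Agent.S3797
import Groth.Agent.S1525

/-!
# Euler characteristics of the negative twists of a projective bundle

`π : P ⟶ C` a projective bundle `P(E)` over a proper `k`-scheme, `E` of rank `r + 1`, `Om` an inverse of `O(1)`:
* `euler_W`: `χ(P, O(-i) ⊗ π^* G) = χ(C, G)` for `i = 0` and `= 0` for `1 ≤ i ≤ r`;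
* `euler_top`: `χ(P, O(-(r+1))) = (-1)^r χ(C, (det E)⁻¹)`.
-/

set_option autoImplicit false

universe u v w

open CategoryTheory CategoryTheory.Limits AlgebraicGeometry

namespace K285.EulerPB

open Groth.Agent Groth.Agent.Krr.H471.ChartVan Groth.Agent.Krr.H471.ChartTwist
open Groth.Agent.Krr.H482.PullLambda Groth.Agent.Krr.H482.PullFinal K879.ProjB
open Groth.Agent.Fga.ChiBasic Groth.Agent.Vancyc.H175.Leray Groth.Agent.Vancyc.H175.AltLine

variable (k : Type u) [Field k] {C P : Scheme.{u}} [C.Over (Spec (CommRingCat.of k))]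
  [P.Over (Spec (CommRingCat.of k))] [IsProper (C ↘ (Spec (CommRingCat.of k)))]
  [IsProper (P ↘ (Spec (CommRingCat.of k)))] {π : P ⟶ C}
  (hπ : π ≫ (C ↘ (Spec (CommRingCat.of k))) = P ↘ (Spec (CommRingCat.of k)))
  {r : ℕ} {E : C.Modules} {O1 : P.Modules} {q : (Scheme.Modules.pullback π).obj E ⟶ O1} {Om : P.Modules}

include hπ in
theorem euler_W (hE : FlatMod.IsFinLocFreeOfRank (r + 1) E) (hP : KRR.IsProjBundle π E O1 q)
    (hOm : FlatMod.IsFinLocFree Om)
    (hOOm : Nonempty (((DCoh.tensorBi (X := P)).obj O1).obj Om ≅ Coh.structureModule P))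
    {G : C.Modules} (hG : FlatMod.IsFinLocFree G) (i : ℕ) (hi : i ≤ r) :
    Curv2.euler k P (((DCoh.tensorBi (X := P)).obj (W Om i)).obj ((Scheme.Modules.pullback π).obj G)) =
      if i = 0 then Curv2.euler k C G else 0 := by
  have := isNoetherian k C
  have := isNoetherian k P
  have := isProper_of_over k π hπ
  have := hasInjectiveResolutions P
  have hfl : FlatMod.IsFinLocFree (((DCoh.tensorBi (X := P)).obj (W Om i)).obj
      ((Scheme.Modules.pullback π).obj G)) :=
    Sga67.LocBasis.isFinLocFree_tensorMod (isFinLocFree_W hOm i) (isFinLocFree_pullback π hG)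
  have hc : Coh.IsCoh (((DCoh.tensorBi (X := P)).obj (W Om i)).obj ((Scheme.Modules.pullback π).obj G)) :=
    Groth.Agent.PerfA.CohSerre.isCoh_of_isFinLocFree hfl
  rw [S1525.result k C P π hπ _ hc]
  have hz : ∀ p : ℕ, 0 < p ∨ 0 < i → IsZero ((Coh.Rpush π p).obj
      (((DCoh.tensorBi (X := P)).obj (W Om i)).obj ((Scheme.Modules.pullback π).obj G))) := fun p hp =>
    (isZero_Rpush_W hE hP hOm hOOm hG i hi p hp).of_iso ((Coh.Rpush π p).mapIso (unitIso _).symm)
  split_ifs with h0
  · subst h0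
    rw [finsum_eq_single _ 0]
    · rw [pow_zero, one_mul]
      obtain ⟨e⟩ := nonempty_push_iso (Om := Om) hE hP hG
      refine chi_iso (isAdd_euler k C) ((rpushZero π).app _ ≪≫
        (Scheme.Modules.pushforward π).mapIso (unitIso _).symm ≪≫ e) (isCoh_rpush k π hπ hc 0)
    · intro p hp
      rw [chi_isZero (isAdd_euler k C) (hz p (Or.inl (Nat.pos_of_ne_zero hp))), mul_zero]
  · refine (finsum_congr fun p => ?_).trans finsum_zero
    rw [chi_isZero (isAdd_euler k C) (hz p (Or.inr (Nat.pos_of_ne_zero h0))), mul_zero]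

/-- Additive maps out of a model given by an additive function on coherent modules. -/
theorem exists_chi {X : Scheme.{u}} {χ : X.Modules → ℤ} (hχ : IsAdd χ) {K : Type v} [CommRing K]
    [LambdaRing.LambdaOps K] {PX : LambdaRing.PosStructure K} {φ : SGA6.Kvb X →+ K}
    (hK : KRR.IsModel X K PX φ) :
    ∃ g : K →+ ℤ, ∀ F : X.Modules, FlatMod.IsFinLocFree F → g (φ (KRR.cl X F)) = χ F := by
  let e : SGA6.Kvb X ≃+ K := AddEquiv.ofBijective φ hK.bijective
  refine ⟨(chiK hχ).comp e.symm.toAddMonoidHom, fun F hF => ?_⟩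
  have h1 : e.symm (φ (KRR.cl X F)) = KRR.cl X F := e.symm_apply_apply _
  change chiK hχ (e.symm (φ (KRR.cl X F))) = _
  rw [h1]
  exact chiK_c hχ hF

include hπ in
/-- `(-1)^(r+1) χ(P, O(-(r+1))) = - χ(C, (det E)⁻¹)`. -/
theorem euler_top [ConnectedSpace C] (hE : FlatMod.IsFinLocFreeOfRank (r + 1) E)
    (hP : KRR.IsProjBundle π E O1 q) (hOm : FlatMod.IsFinLocFree Om)
    (hOOm : Nonempty (((DCoh.tensorBi (X := P)).obj O1).obj Om ≅ Coh.structureModule P))
    {D D' : C.Modules} (hD : ExtPow.IsExtPow (r + 1) E D) (hDf : FlatMod.IsFinLocFree D)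
    (hD' : FlatMod.IsFinLocFree D')
    (hDD' : Nonempty (((DCoh.tensorBi (X := C)).obj D).obj D' ≅ Coh.structureModule C)) :
    (-1 : ℤ) ^ (r + 1) * Curv2.euler k P (W Om (r + 1)) = - Curv2.euler k C D' := by
  have := isNoetherian k C
  have := isNoetherian k P
  have := Groth.Agent.Krr.H483.PBTop.connectedSpace hE hP
  obtain ⟨KC, _, _, PC, φC, hKC⟩ := S3796.result C
  obtain ⟨KP, _, _, PP, φP, hKP⟩ := S3796.result P
  obtain ⟨p, hp, -⟩ := S3797.result π KP PP φP hKP KC PC φC hKC
  obtain ⟨χP, hχP⟩ := exists_chi (isAdd_euler k P) hKP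
  obtain ⟨χC, hχC⟩ := exists_chi (isAdd_euler k C) hKC
  -- the twists
  have key : ∀ i ≤ r, ∀ y : KC, χP (p y * φP (KRR.cl P Om) ^ i) = if i = 0 then χC y else 0 := by
    intro i hi y
    refine model_induction hKC
      (C := fun y => χP (p y * φP (KRR.cl P Om) ^ i) = if i = 0 then χC y else 0)
      (fun m G _ hG => ?_) (fun a b ha hb => ?_) y
    · have hG' := isFinLocFree_of_rank hG
      have hW := isFinLocFree_W hOm i
      have hpG := isFinLocFree_pullback π hG'
      have h1 : p (φC (KRR.cl C G)) * φP (KRR.cl P Om) ^ i =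
          φP (KRR.cl P (((DCoh.tensorBi (X := P)).obj (W Om i)).obj
            ((Scheme.Modules.pullback π).obj G))) := by
        rw [hp G hG', ← cl_W hKP hOm, mul_comm]
        exact hKP.map_mul _ _ hW hpG
      have h2 := hχP (((DCoh.tensorBi (X := P)).obj (W Om i)).obj ((Scheme.Modules.pullback π).obj G))
        (Sga67.LocBasis.isFinLocFree_tensorMod hW hpG)
      rw [h1, h2, hχC _ hG']
      exact euler_W k hπ hE hP hOm hOOm hG' i hi
    · rw [map_sub, sub_mul, map_sub, ha, hb, map_sub]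
      split_ifs
      · rfl
      · exact sub_zero 0
  -- the relation
  have hrel := rel_m hE hP hOm hOOm hKP hKC hp
  set e := φC (KRR.cl C E) with he
  set m := φP (KRR.cl P Om) with hm
  set y := φC (KRR.cl C D') with hy
  have hlam : LambdaRing.LambdaOps.lam (r + 1) e * y = 1 := by
    rw [he, hKC.map_lam (r + 1) E D (isFinLocFree_of_rank hE) hDf hD, hy]
    exact cl_mul_cl hKC hDf hD' hDD'
  have h1 : ∑ i ∈ Finset.range (r + 2), (-1 : ℤ) ^ i *
      χP (p (y * LambdaRing.LambdaOps.lam i e) * m ^ i) = 0 := by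
    have h2 := congrArg (fun x => χP (p y * x)) hrel
    simp only [mul_zero, map_zero, Finset.mul_sum, map_sum] at h2
    rw [← h2]
    refine Finset.sum_congr rfl fun i _ => ?_
    have h3 : p y * ((-1 : KP) ^ i * p (LambdaRing.LambdaOps.lam i e) * m ^ i) =
        ((-1 : ℤ) ^ i) • (p (y * LambdaRing.LambdaOps.lam i e) * m ^ i) := by
      rw [pull_mul hKP hKC hp, zsmul_eq_mul]
      push_cast
      ring
    rw [h3, map_zsmul, smul_eq_mul]
  rw [Finset.sum_range_succ, Finset.sum_range_succ'] at h1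
  have h4 : ∑ i ∈ Finset.range r, (-1 : ℤ) ^ (i + 1) *
      χP (p (y * LambdaRing.LambdaOps.lam (i + 1) e) * m ^ (i + 1)) = 0 := by
    refine Finset.sum_eq_zero fun i hi => ?_
    rw [Finset.mem_range] at hi
    rw [key (i + 1) hi, if_neg (Nat.succ_ne_zero i), mul_zero]
  rw [h4, key 0 (Nat.zero_le _), if_pos rfl, mul_comm y (LambdaRing.LambdaOps.lam (r + 1) e), hlam,
    pull_one hKP hKC hp, one_mul, LambdaRing.LambdaOps.lam_zero, mul_one, pow_zero, one_mul, zero_add,
    hm, ← cl_W hKP hOm, hχP _ (isFinLocFree_W hOm (r + 1)), hy, hχC _ hD'] at h1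
  exact eq_neg_of_add_eq_zero_right h1

end K285.EulerPB
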