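import Groth.Agent.Krr.H483.PBTop
import Groth.Agent.EGA4.K110.DimFib
import Groth.Agent.S10829
import Groth.Agent.S12128
import Groth.Agent.CalgB.AmpleBase
import Groth.Agent.VarietyA.AmpleField
import Groth.Agent.Models2.AmplePull

/-!
# Fibres of a projective bundle, dimension and ampleness

`π : P ⟶ C` a projective bundle `P(E)`, `E` of rank `r + 1`:
* `exists_fibre_iso`: the fibres are projective spaces, `O(1)` restricts to `O(1)`;
* `dim_le`: `dim P ≤ dim C + r`;
* `isRelAmple`: `O(1)` is relatively ample; `exists_isAmple`: `P` has an ample module if `C` has one.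
-/

set_option autoImplicit false

universe u

open CategoryTheory CategoryTheory.Limits AlgebraicGeometry

namespace K285.PBGeom

open Groth.Agent Groth.Agent.Krr.H484.PBCharts Groth.Agent.Krr.H483.PBTop

variable {C P : Scheme.{u}} {π : P ⟶ C} {r : ℕ} {E : C.Modules} {O1 : P.Modules}
  {q : (Scheme.Modules.pullback π).obj E ⟶ O1}

/-- The fibres of a projective bundle are projective spaces. -/
theorem exists_fibre_iso (hE : FlatMod.IsFinLocFreeOfRank (r + 1) E) (hP : KRR.IsProjBundle π E O1 q) (y : C) :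
    ∃ e : CohB1.ProjSpace r (C.residueField y) ≅ π.fiber y,
      Nonempty ((Scheme.Modules.pullback (e.hom ≫ π.fiberι y)).obj O1 ≅
        Twist.twistProjSpace r (C.residueField y) 1) := by
  obtain ⟨t⟩ := exists_triv_point hE y
  obtain ⟨j, hj, ⟨b⟩⟩ := exists_chart hP (A := C.residueField y) (C.fromSpecResidueField y) t
  exact ⟨hj.isoPullback, ⟨(Scheme.Modules.pullbackCongr hj.isoPullback_hom_fst).app O1 ≪≫ b⟩⟩

theorem dim_le [IsLocallyNoetherian C] (hE : FlatMod.IsFinLocFreeOfRank (r + 1) E)
    (hP : KRR.IsProjBundle π E O1 q) : topologicalKrullDim P ≤ topologicalKrullDim C + r := by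
  have := isProper hE hP
  refine K110.DimFib.dim_le_of_fibre_le π r fun y => ?_
  obtain ⟨e, -⟩ := exists_fibre_iso hE hP y
  rw [← IsHomeomorph.topologicalKrullDim_eq _ (Scheme.homeoOfIso e).isHomeomorph]
  exact (S10829.result (C.residueField y) r).le

theorem isRelAmple [IsLocallyNoetherian C] (hE : FlatMod.IsFinLocFreeOfRank (r + 1) E)
    (hP : KRR.IsProjBundle π E O1 q) : RelAmple.IsRelAmple π O1 := by
  have := isProper hE hP
  have hfp : LocallyOfFinitePresentation π := inferInstance
  rw [S12128.result π O1 (Ega2.QCohLocal.isFinLocFreeOfRank_one_iff.mp hP.invertible)]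
  intro s
  obtain ⟨e, ⟨b⟩⟩ := exists_fibre_iso hE hP s
  rw [← Models2.AmplePull.isAmple_pullback_iff_of_isIso e.hom (π.fiberι s) O1]
  exact Models2.AmplePull.isAmple_of_iso b.symm (VarietyA.AmpleField.isAmple_twistProjSpace r _)

theorem exists_isAmple [IsLocallyNoetherian C] (hE : FlatMod.IsFinLocFreeOfRank (r + 1) E)
    (hP : KRR.IsProjBundle π E O1 q) (hN : ∃ N : C.Modules, CohB1.IsAmple N) :
    ∃ A : P.Modules, CohB1.IsAmple A := by
  obtain ⟨N, hN⟩ := hN
  obtain ⟨a, b, h⟩ := CalgB.AmpleBase.exists_isAmple_of_isRelAmple hN (isRelAmple hE hP)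
  exact ⟨_, h⟩

end K285.PBGeom
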