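import Groth.Agent.ProjBd.K285.PBInt
import Groth.Agent.ProjBd.K285.PBGeom
import Groth.Agent.Variety.K432.VB
import Groth.Agent.Vanish.K909.Kleiman
import Groth.Agent.Variety.K424.NakMain
import Groth.Agent.VBCurve.K708.Deg
import Groth.Agent.VBCurve.K707.TensL
import Groth.Agent.Krr.H495.ExtExist
import Groth.Agent.Krr.H490.PBExist
import Groth.Agent.AbSch.K451.DetMat
import Groth.Agent.CalgB.ProjField
import Groth.Agent.S7638

/-!
# The degree of a vector bundle which is nef in the curve-test sense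

`deg_nonneg`: `C` an integral proper curve over a field `k`, `E` finite locally free on `C`, nef in the curve-test
sense; then `deg E ≥ 0`.  (`O(1)` on `P(E)` is nef, so its top self-intersection number `deg E` is nonnegative.)
-/

set_option autoImplicit false

universe u

open CategoryTheory CategoryTheory.Limits AlgebraicGeometry

namespace K285.NefDeg

open Groth.Agent K285.PBInt K285.PBGeom K432.NefBasic K432.NefSurj K432.CurveDeg Groth.Agent.Grpsch.PicGrp

variable (k : Type u) [Field k] {C P : Scheme.{u}} [C.Over (Spec (CommRingCat.of k))]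
  [P.Over (Spec (CommRingCat.of k))] [IsProper (C ↘ (Spec (CommRingCat.of k)))]
  {π : P ⟶ C} (hπ : π ≫ (C ↘ (Spec (CommRingCat.of k))) = P ↘ (Spec (CommRingCat.of k)))
  {E : C.Modules} {O1 : P.Modules} {q : (Scheme.Modules.pullback π).obj E ⟶ O1}

include hπ in
/-- `O(1)` is nef if `E` is nef in the curve-test sense. -/
theorem nef_O1 [IsProper (P ↘ (Spec (CommRingCat.of k)))] (h : CNef (C ↘ (Spec (CommRingCat.of k))) E)
    (hP : KRR.IsProjBundle π E O1 q) : K909.Kleiman.Nef k P O1 := by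
  intro Y i _ hY hdim
  have hO1 := Ega2.QCohLocal.isFinLocFreeOfRank_one_iff.mp hP.invertible
  have hq := hP.epi
  have e1 : (i ≫ π) ≫ (C ↘ (Spec (CommRingCat.of k))) = i ≫ (P ↘ (Spec (CommRingCat.of k))) := by
    rw [Category.assoc, hπ]
  have hprop : IsProper ((i ≫ π) ≫ (C ↘ (Spec (CommRingCat.of k)))) := by
    rw [e1]; infer_instance
  have h1 := h Y (i ≫ π) hdim ((Scheme.Modules.pullback i).obj O1)
    (Fdesc.LocGen.isInvertible_pullback i hO1)
    ((Scheme.Modules.pullbackComp i π).inv.app E ≫ (Scheme.Modules.pullback i).map q) (by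
      have : Epi ((Scheme.Modules.pullback i).map q) := epi_pullback_map _ q
      exact epi_comp _ _)
  rw [e1] at h1
  have hprop' : IsProper (i ≫ (P ↘ (Spec (CommRingCat.of k)))) := inferInstance
  generalize i ≫ (P ↘ (Spec (CommRingCat.of k))) = s at h1 hprop'
  letI : Y.Over (Spec (CommRingCat.of k)) := ⟨s⟩
  haveI : IsProper (Y ↘ (Spec (CommRingCat.of k))) := hprop'
  have := Vancyc.H175.Leray.isNoetherian k Y
  change 0 ≤ FGA.eulerCharLE k Y _ 1 - FGA.eulerCharLE k Y (Coh.structureModule Y) 1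
  change 0 ≤ Curv2.deg k Y _ 1 at h1
  rw [Fga.EulerLEAdd.eulerCharLE_eq_euler k Y 1 (by rw [hdim]; simp),
    Fga.EulerLEAdd.eulerCharLE_eq_euler k Y 1 (by rw [hdim]; simp)]
  unfold Curv2.deg at h1
  simpa using h1

theorem deg_nonneg [IsIntegral C] (hC : topologicalKrullDim C = 1) (n : ℕ) (E : C.Modules)
    (hE : FlatMod.IsFinLocFreeOfRank n E) (h : CNef (C ↘ (Spec (CommRingCat.of k))) E) :
    0 ≤ Curv2.deg k C E n := by
  have := Vancyc.H175.Leray.isNoetherian k C
  rcases n with _ | r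
  · rw [S7638.result k C hC.le 0 E hE _ (Sga67.TensorOps.isExtPow_zero E)]
    unfold Curv2.deg
    simp
  · obtain ⟨P, π, O1, q, hP⟩ := Krr.H490.PBExist.exists_isProjBundle hE
    have hpr := Krr.H483.PBTop.isProper hE hP
    letI : P.Over (Spec (CommRingCat.of k)) := ⟨π ≫ (C ↘ (Spec (CommRingCat.of k)))⟩
    have hπ : π ≫ (C ↘ (Spec (CommRingCat.of k))) = P ↘ (Spec (CommRingCat.of k)) := rfl
    haveI : IsProper (P ↘ (Spec (CommRingCat.of k))) := by rw [← hπ]; infer_instance
    have hO1 := Ega2.QCohLocal.isFinLocFreeOfRank_one_iff.mp hP.invertible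
    obtain ⟨Om, hOm, ⟨eO⟩⟩ := exists_inverse hO1
    have hOmf : FlatMod.IsFinLocFree Om := K707.TensL.vb_of_inv hOm
    obtain ⟨D, hDf, hD⟩ := Krr.H495.ExtExist.exists_isExtPow (r + 1) E (Ega2.QCohLocal.isFinLocFree_of_rank hE)
    have hDi : PicF.IsInvertible D := K451.DetMat.isInvertible_of_isExtPow hE hD
    obtain ⟨D', hD', ⟨eD⟩⟩ := exists_inverse hDi
    have hD'f : FlatMod.IsFinLocFree D' := K707.TensL.vb_of_inv hD'
    have hdim : topologicalKrullDim P ≤ ((r + 1 : ℕ) : WithBot ℕ∞) := by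
      refine (dim_le hE hP).trans ?_
      rw [hC]
      push_cast
      rw [add_comm]
    obtain ⟨A, hA⟩ := PBGeom.exists_isAmple hE hP
      (CalgB.ProjField.exists_isAmple_of_dim_le_one (C ↘ (Spec (CommRingCat.of k))) hC.le)
    have hnef := nef_O1 k hπ h hP
    have hN := Vancyc.H175.Leray.isNoetherian k P
    have key := K909.Kleiman.nonneg_mixed (A := A) (K424.NakMain.nak k) hdim hnef hO1 hA
      (Coh.structureModule P) (CurvesC.UnitCoh.isCoh_unit P) (by
        rw [Pic13.H970.Assembly.support_unit,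
          IsHomeomorph.topologicalKrullDim_eq _ (Homeomorph.Set.univ P).isHomeomorph]
        exact hdim) (fun _ : Fin (r + 1) => mk O1 hO1) (fun _ => Or.inl rfl)
    have h1 := K909.InterML.inter_mk k P (r + 1) (Coh.structureModule P) (fun _ : Fin (r + 1) => O1)
      (fun _ => Om) (fun _ => hO1) (fun _ => hOm) (fun _ => ⟨eO⟩)
    rw [h1, intNum_eq k hπ hE hP hOmf ⟨eO⟩ hD hDf hD'f ⟨eD⟩ (r + 1) hdim] at key
    rw [S7638.result k C hC.le (r + 1) E hE D hD]
    have h2 := K708.Deg.deg_eq_neg k hC.le (Ega2.QCohLocal.isFinLocFreeOfRank_one_iff.mpr hDi)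
      (Ega2.QCohLocal.isFinLocFreeOfRank_one_iff.mpr hD') eD
    unfold Curv2.deg at h2 ⊢
    push_cast at h2 ⊢
    linarith

end K285.NefDeg
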