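import Groth.Agent.VBCurve.K708.DualDeg

/-!
# Pairings of vector bundles on a regular curve

`dg_nonneg_of_pairing`: `V`, `W` vector bundles on a regular proper curve all of whose locally free quotients have
non-negative degree; if there is a nonzero map `V ⊗ W ⟶ M`, `M` invertible, then `deg M ≥ 0`.
-/

set_option autoImplicit false

universe u v w

open CategoryTheory CategoryTheory.Limits AlgebraicGeometry MonoidalCategory

namespace K285.Pairing

section cat

variable {C : Type u} [Category.{v} C] [MonoidalCategory C] [Preadditive C] [MonoidalPreadditive C]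

theorem tensorRightHomEquiv_symm_zero {A Y Y' Z : C} [ExactPairing Y Y'] :
    (tensorRightHomEquiv A Y Y' Z).symm 0 = 0 := by
  simp [tensorRightHomEquiv]

/-- If the adjoint of `b : I ⊗ J ⟶ M` kills `f : A ⟶ I`, so does the adjoint of `I ⊗ W ⟶ I ⊗ J ⟶ M`. -/
theorem comp_eq_zero {A I W J M W' J' : C} [ExactPairing W W'] [ExactPairing J J'] (p : W ⟶ J)
    (b : I ⊗ J ⟶ M) (f : A ⟶ I) (h : f ≫ tensorRightHomEquiv I J J' M b = 0) :
    f ≫ tensorRightHomEquiv I W W' M (I ◁ p ≫ b) = 0 := by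
  have h1 : f ▷ J ≫ b = 0 := by
    have h2 := congrArg (tensorRightHomEquiv A J J' M).symm h
    rw [tensorRightHomEquiv_symm_naturality, Equiv.symm_apply_apply, tensorRightHomEquiv_symm_zero] at h2
    exact h2
  apply (tensorRightHomEquiv A W W' M).symm.injective
  rw [tensorRightHomEquiv_symm_naturality, Equiv.symm_apply_apply, tensorRightHomEquiv_symm_zero,
    ← whisker_exchange_assoc, h1, comp_zero]

end cat

open Groth.Agent Groth.Agent.VarietyA.DegRank K707.Base K707.Deg K707.Slope K707.Semi K707.TensL K708.Dual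
open K708.DualDeg
open scoped Groth.Agent.Dcoh.MonCat

variable (k : Type u) [Field k] {X : Scheme.{u}} [X.Over (Spec (CommRingCat.of k))]
  [IsIntegral X] [IsProper (X ↘ (Spec (CommRingCat.of k)))]

/-- Every finite locally free quotient has non-negative degree. -/
def QNN (V : X.Modules) : Prop :=
  ∀ (Q : X.Modules) (q : V ⟶ Q), Epi q → FlatMod.IsFinLocFree Q → 0 ≤ dg k Q

variable {k}

omit [X.Over (Spec (CommRingCat.of k))] [IsProper (X ↘ (Spec (CommRingCat.of k)))] in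
theorem rk_inv {L : X.Modules} (hL : PicF.IsInvertible L) : rk L = 1 := rk_of_rank (rank_one_iff.mpr hL)

theorem dg_nonneg_of_pairing (C : Crv k X) {V W M : X.Modules} (hV : FlatMod.IsFinLocFree V)
    (hW : FlatMod.IsFinLocFree W) (hM : PicF.IsInvertible M) (qV : QNN k V) (qW : QNN k W)
    (b : V ⊗ W ⟶ M) (hb : b ≠ 0) : 0 ≤ dg k M := by
  have := isLocNoeth C
  have hMf := vb_of_inv hM
  obtain ⟨W', hW', ⟨iW⟩⟩ := exists_dual (isFinLocFreeOfRank_rk hW)
  have hW'f := isFinLocFree_of_rank hW'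
  obtain ⟨I, p, i, hp, hi, hpi, hI, -⟩ := exists_factor C (tensorRightHomEquiv V W W' M b) (coh_of_vb hV)
    (coh_of_vb (vb_tensor hMf hW'f))
  have hIf := vb_of_mono C i hI (vb_tensor hMf hW'f)
  obtain ⟨b₁, hb₁⟩ : ∃ b₁ : I ⊗ W ⟶ M, b₁ = (tensorRightHomEquiv I W W' M).symm i := ⟨_, rfl⟩
  have hb1 : p ▷ W ≫ b₁ = b := by
    rw [hb₁, ← tensorRightHomEquiv_symm_naturality, hpi, Equiv.symm_apply_apply]
  obtain ⟨I', hI', ⟨iI⟩⟩ := exists_dual (isFinLocFreeOfRank_rk hIf)
  have hI'f := isFinLocFree_of_rank hI'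
  obtain ⟨J, p', j, hp', hj, hpj, hJ, -⟩ := exists_factor C
    (tensorRightHomEquiv W I I' M ((β_ W I).hom ≫ b₁)) (coh_of_vb hW) (coh_of_vb (vb_tensor hMf hI'f))
  have hJf := vb_of_mono C j hJ (vb_tensor hMf hI'f)
  obtain ⟨b₃, hb₃⟩ : ∃ b₃ : J ⊗ I ⟶ M, b₃ = (tensorRightHomEquiv J I I' M).symm j := ⟨_, rfl⟩
  have hb3 : p' ▷ I ≫ b₃ = (β_ W I).hom ≫ b₁ := by
    rw [hb₃, ← tensorRightHomEquiv_symm_naturality, hpj, Equiv.symm_apply_apply]
  have hb4 : I ◁ p' ≫ (β_ I J).hom ≫ b₃ = b₁ := by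
    rw [BraidedCategory.braiding_naturality_right_assoc, hb3, SymmetricCategory.symmetry_assoc]
  obtain ⟨J', hJ', ⟨iJ⟩⟩ := exists_dual (isFinLocFreeOfRank_rk hJf)
  have hJ'f := isFinLocFree_of_rank hJ'
  obtain ⟨θ, hθe⟩ : ∃ θ : I ⟶ M ⊗ J', θ = tensorRightHomEquiv I J J' M ((β_ I J).hom ≫ b₃) := ⟨_, rfl⟩
  have hθ : Mono θ := Preadditive.mono_of_cancel_zero _ fun {A} f hf => by
    rw [hθe] at hf
    have h1 := comp_eq_zero (W' := W') p' _ f hf
    rw [hb4, hb₁, Equiv.apply_symm_apply] at h1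
    exact (cancel_mono i).mp (by rw [h1, zero_comp])
  have hMJ : Coh.IsCoh (CohB1.tensorMod M J') := coh_of_vb (vb_tensor hMf hJ'f)
  have hMI : Coh.IsCoh (CohB1.tensorMod M I') := coh_of_vb (vb_tensor hMf hI'f)
  have r1 : rk (CohB1.tensorMod M J') = rk J := by
    rw [rk_tensor hJ' (coh_of_vb hMf), rk_inv hM, mul_one]
  have r2 : rk (CohB1.tensorMod M I') = rk I := by
    rw [rk_tensor hI' (coh_of_vb hMf), rk_inv hM, mul_one]
  have h1 : rk J ≤ rk I := by
    have hj' : @Mono X.Modules _ J (CohB1.tensorMod M I') j := hj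
    have := rk_le_of_mono C (E := CohB1.tensorMod M I') j hJ hMI
    rwa [r2] at this
  have h2 : dg k I ≤ dg k (CohB1.tensorMod M J') := by
    have hθ' : @Mono X.Modules _ I (CohB1.tensorMod M J') θ := hθ
    exact dg_le_of_mono C (E := CohB1.tensorMod M J') θ hI hMJ (by rw [r1]; exact h1)
  rw [dg_tensor k C.dim hJ' (coh_of_vb hMf), dg_dual C hJf J', rk_inv hM] at h2
  have h3 := qV I p hp hIf
  have h4 := qW J p' hp' hJf
  have h5 : 0 < rk J := by
    refine Nat.pos_of_ne_zero fun h0 => hb ?_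
    have h6 := isZero_of_rk_eq_zero C hJf h0
    have h7 : b₁ = 0 := by
      have h8 : p' = 0 := h6.eq_of_tgt _ _
      rw [← hb4, h8]
      simp
    rw [← hb1, h7, comp_zero]
  have h6 : (0 : ℤ) < rk J := by exact_mod_cast h5
  push_cast at h2
  have h7 : 0 ≤ (rk J : ℤ) * dg k M := by linarith
  exact nonneg_of_mul_nonneg_right h7 h6

end K285.Pairing
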