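import Groth.Agent.ProjBd.K285.NefDeg
import Groth.Agent.ProjBd.K285.Pairing
import Groth.Agent.Krr.H463.Wedge

/-!
# Tensor products and exterior powers of modules which are nef in the curve-test sense

`cnef_tensor`, `cnef_tensorPow`, `cnef_extPow`.
-/

set_option autoImplicit false

universe u

open CategoryTheory CategoryTheory.Limits AlgebraicGeometry

namespace K285.NefTens

open Groth.Agent K285.NefDeg K285.Pairing K432.NefBasic K432.NefSurj K432.CurveDeg K432.VB
open K707.Base K707.Deg K707.Slope K707.TensL K707.Semi Groth.Agent.VarietyA.DegRank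

variable {k : Type u} [Field k]

/-- On a regular curve, all locally free quotients of a nef module have nonnegative degree. -/
theorem qnn_of_cnef {C : Scheme.{u}} [C.Over (Spec (CommRingCat.of k))] [IsIntegral C]
    [IsProper (C ↘ (Spec (CommRingCat.of k)))] (hC : topologicalKrullDim C = 1) {V : C.Modules}
    (h : CNef (C ↘ (Spec (CommRingCat.of k))) V) : QNN k V := by
  intro Q r hr hQ
  have hQr := isFinLocFreeOfRank_rk hQ
  rw [dg_of_rank k hQr]
  exact deg_nonneg k hC _ Q hQr (CNef.of_epi h r)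

theorem cnef_tensor {X : Scheme.{u}} {p : X ⟶ Spec (CommRingCat.of k)} [IsSeparated p] {E E' : X.Modules}
    (hE : FlatMod.IsFinLocFree E) (hE' : FlatMod.IsFinLocFree E') (h : CNef p E) (h' : CNef p E') :
    CNef p (CohB1.tensorMod E E') := by
  rw [cnef_iff_reg]
  intro C _ f hfp hC hreg M hM q hq
  let : C.Over (Spec (CommRingCat.of k)) := ⟨f ≫ p⟩
  have hprop : IsProper (C ↘ (Spec (CommRingCat.of k))) := hfp
  have hcrv := crv_of_regular k C hC hreg
  have hV := Krr.H482.PullLambda.isFinLocFree_pullback f hE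
  have hW := Krr.H482.PullLambda.isFinLocFree_pullback f hE'
  have qV : QNN k ((Scheme.Modules.pullback f).obj E) := qnn_of_cnef hC (CNef.pullback h f)
  have qW : QNN k ((Scheme.Modules.pullback f).obj E') := qnn_of_cnef hC (CNef.pullback h' f)
  have e : (Scheme.Modules.pullback f).obj (CohB1.tensorMod E E') ≅
      CohB1.tensorMod ((Scheme.Modules.pullback f).obj E) ((Scheme.Modules.pullback f).obj E') :=
    Krr.H482.PullTens.pullTensorIso f E E'
  have hM1 := rank_one_iff.mpr hM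
  have hb : e.inv ≫ q ≠ 0 := by
    intro h0
    have hepi : Epi (e.inv ≫ q) := epi_comp _ _
    have hz : IsZero M := IsZero.of_epi_eq_zero (e.inv ≫ q) h0
    have := rk_of_isZero hz
    rw [rk_inv hM] at this
    exact one_ne_zero this
  have h1 := dg_nonneg_of_pairing hcrv hV hW hM qV qW (e.inv ≫ q) hb
  rw [dg_of_rank k hM1] at h1
  exact h1

theorem cnef_of_iso {X : Scheme.{u}} {p : X ⟶ Spec (CommRingCat.of k)} {E F : X.Modules}
    (h : CNef p E) (e : E ≅ F) : CNef p F := CNef.of_epi h e.hom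

theorem cnef_unit {X : Scheme.{u}} (p : X ⟶ Spec (CommRingCat.of k)) [IsSeparated p] :
    CNef p (Coh.structureModule X) := by
  rw [cnef_iff_reg]
  intro C _ f hfp hC hreg M hM q hq
  let : C.Over (Spec (CommRingCat.of k)) := ⟨f ≫ p⟩
  have hprop : IsProper (C ↘ (Spec (CommRingCat.of k))) := hfp
  have hcrv := crv_of_regular k C hC hreg
  have hM1 := rank_one_iff.mpr hM
  let e := Krr.H482.PullTens.pullUnitIso f
  have hN : PicF.IsInvertible ((Scheme.Modules.pullback f).obj (Coh.structureModule X)) :=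
    Fdesc.LocGen.isInvertible_pullback f Fdesc.LocGen.isInvertible_structureModule
  have h1 := epi_numbers hcrv q (coh_of_vb (vb_of_inv hN)) (coh_of_vb (vb_of_inv hM))
  rw [rk_inv hN, rk_inv hM] at h1
  have h2 := dg_of_vb_of_rk_eq_zero hcrv
    (vb_kernel hcrv q (vb_of_inv hN) (coh_of_vb (vb_of_inv hM))) (by omega)
  rw [h2, zero_add, dg_iso k e, dg_of_rank k hM1, dg_of_rank k (rank_one_iff.mpr
    Fdesc.LocGen.isInvertible_structureModule)] at h1
  have h3 := h1.2
  have h4 : Curv2.deg k C (Coh.structureModule C) 1 = 0 := by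
    unfold Curv2.deg
    simp
  rw [h4] at h3
  exact h3.le

theorem cnef_tensorPow {X : Scheme.{u}} {p : X ⟶ Spec (CommRingCat.of k)} [IsSeparated p] {E : X.Modules}
    (hE : FlatMod.IsFinLocFree E) (h : CNef p E) (n : ℕ) :
    FlatMod.IsFinLocFree (CohB1.tensorPow E n) ∧ CNef p (CohB1.tensorPow E n) := by
  induction n with
  | zero => exact ⟨Sga67.TensorOps.isFinLocFree_structureModule, cnef_unit p⟩
  | succ n ih =>
    exact ⟨Sga67.LocBasis.isFinLocFree_tensorMod ih.1 hE, cnef_tensor ih.1 hE ih.2 h⟩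

open Groth.Agent.Sga67.Sec Groth.Agent.Sga67.ExtSheaf Groth.Agent.Sga67.LocBasis in
/-- The wedge product `E ⊗ Λ^n E ⟶ Λ^{n+1} E` is an epimorphism. -/
theorem exists_wedge_epi {X : Scheme.{u}} {E L N : X.Modules} {n : ℕ} (hL : ExtPow.IsExtPow n E L)
    (hN : ExtPow.IsExtPow (n + 1) E N) : ∃ μ : CohB1.tensorMod E L ⟶ N, Epi μ := by
  obtain ⟨φ, hφ⟩ := exists_phi hL
  obtain ⟨ψ, hψ⟩ := exists_phi hN
  obtain ⟨μ, hμ⟩ := Krr.H463.Wedge.exists_wedge φ hφ ψ hψ
  refine ⟨μ, epi_of_locally_surjective μ fun U s x hx => ?_⟩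
  obtain ⟨_, ⟨W, rfl⟩, hxW, hW⟩ := TopologicalSpace.Opens.isBasis_iff_nbhd.mp (affineBasis X) hx
  refine ⟨W.1, hW, hxW, ?_⟩
  refine phi_induction ψ W (C := fun s => ∃ t, appS μ W.1 t = s) ⟨0, map_zero _⟩ ?_ ?_ ?_ (res N hW s)
  · rintro _ _ ⟨a, rfl⟩ ⟨b, rfl⟩
    exact ⟨a + b, map_add _ _ _⟩
  · rintro a _ ⟨b, rfl⟩
    exact ⟨a • b, map_smul _ _ _⟩
  · intro e
    have h1 := hμ W (e 0) (Fin.tail e)
    rw [Fin.cons_self_tail] at h1
    exact ⟨_, h1⟩

theorem cnef_extPow {X : Scheme.{u}} {p : X ⟶ Spec (CommRingCat.of k)} [IsSeparated p] {E : X.Modules}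
    (hE : FlatMod.IsFinLocFree E) (h : CNef p E) (n : ℕ) :
    ∀ Λ : X.Modules, ExtPow.IsExtPow n E Λ → CNef p Λ := by
  induction n with
  | zero =>
    intro Λ hΛ
    obtain ⟨e⟩ := Sga67.TensorOps.nonempty_iso_of_isExtPow (Iso.refl E) (Sga67.TensorOps.isExtPow_zero E) hΛ
    exact cnef_of_iso (cnef_unit p) e
  | succ n ih =>
    intro N hN
    obtain ⟨L, hLf, hL⟩ := Krr.H495.ExtExist.exists_isExtPow n E hE
    obtain ⟨μ, hμ⟩ := exists_wedge_epi hL hN
    exact CNef.of_epi (cnef_tensor hE hLf h (ih L hL)) μ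

end K285.NefTens
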