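import Groth.Agent.ProjBd.K285.EulerPB
import Groth.Agent.Fga.PicMon
import Groth.Agent.Fga.EulerLEAdd
import Groth.Agent.Krr.H482.PullTens
import Groth.Agent.Sga67.TensorOps
import Groth.Agent.VarietyA.DegRank

/-!
# The top self-intersection of `O(1)` on a projective bundle

`π : P ⟶ C` a projective bundle `P(E)`, `E` of rank `r + 1`:
* `intNum_eq`: `(O(1)^(r+1)) = χ(O_C) - χ((det E)⁻¹)`.
-/

set_option autoImplicit false

universe u v w

open CategoryTheory CategoryTheory.Limits AlgebraicGeometry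

namespace K285.PBInt

open Groth.Agent Groth.Agent.Krr.H471.ChartVan Groth.Agent.Krr.H471.ChartTwist
open Groth.Agent.Fga.PicMon Groth.Agent.Fga.AltSum K285.EulerPB Groth.Agent.Vancyc.H175.Leray
open Groth.Agent.Krr.H484.PBCharts Groth.Agent.Krr.H483.PBTop

theorem mc_W {P : Scheme.{u}} (Om : P.Modules) (j : ℕ) : mc (W Om j) = mc Om ^ j := by
  induction j with
  | zero => rw [pow_zero]; rfl
  | succ j ih => rw [pow_succ', ← ih]; rfl

theorem dSum_const {G : Type v} [CommMonoid G] (φ : G → ℤ) (a : G) (r : ℕ)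
    (h : ∀ j : ℕ, 1 ≤ j → j ≤ r → φ (a ^ j) = 0) :
    dSum φ (fun _ : Fin (r + 1) => a) = φ 1 + (-1) ^ (r + 1) * φ (a ^ (r + 1)) := by
  unfold dSum
  have hne : (∅ : Finset (Fin (r + 1))) ≠ Finset.univ := (Finset.univ_nonempty.ne_empty).symm
  rw [Finset.sum_eq_add (∅ : Finset (Fin (r + 1))) Finset.univ hne]
  · simp
  · rintro I - ⟨h1, h2⟩
    rw [Finset.prod_const, h, mul_zero]
    · exact Finset.card_pos.mpr (Finset.nonempty_iff_ne_empty.mpr h1)
    · have h3 : I.card < (Finset.univ : Finset (Fin (r + 1))).card :=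
        Finset.card_lt_card (Finset.ssubset_univ_iff.mpr h2)
      rw [Finset.card_univ, Fintype.card_fin] at h3
      omega
  · intro h; exact absurd (Finset.mem_univ _) h
  · intro h; exact absurd (Finset.mem_univ _) h

section

variable (k : Type u) [Field k] {C P : Scheme.{u}} [C.Over (Spec (CommRingCat.of k))]
  [P.Over (Spec (CommRingCat.of k))] [IsProper (C ↘ (Spec (CommRingCat.of k)))]
  [IsProper (P ↘ (Spec (CommRingCat.of k)))] {π : P ⟶ C}
  (hπ : π ≫ (C ↘ (Spec (CommRingCat.of k))) = P ↘ (Spec (CommRingCat.of k)))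
  {r : ℕ} {E : C.Modules} {O1 : P.Modules} {q : (Scheme.Modules.pullback π).obj E ⟶ O1} {Om : P.Modules}

theorem W_iso (π : P ⟶ C) (Om : P.Modules) (j : ℕ) : Nonempty (W Om j ≅
    CohB1.tensorMod (W Om j) ((Scheme.Modules.pullback π).obj (Coh.structureModule C))) :=
  ⟨(Ega2.Tens.runit (W Om j)).symm ≪≫
    Ega2.Tens.mapTIso (Iso.refl _) (Krr.H482.PullTens.pullUnitIso π).symm⟩

include hπ in
theorem euler_W' (hE : FlatMod.IsFinLocFreeOfRank (r + 1) E)
    (hP : KRR.IsProjBundle π E O1 q) (hOm : FlatMod.IsFinLocFree Om)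
    (hOOm : Nonempty (((DCoh.tensorBi (X := P)).obj O1).obj Om ≅ Coh.structureModule P)) (j : ℕ) (hj : j ≤ r) :
    Curv2.euler k P (W Om j) = if j = 0 then Curv2.euler k C (Coh.structureModule C) else 0 := by
  have h1 := euler_W k hπ hE hP hOm hOOm (G := Coh.structureModule C)
    Sga67.TensorOps.isFinLocFree_structureModule j hj
  obtain ⟨e1⟩ := W_iso π Om j
  exact (VarietyA.DegRank.euler_iso k e1).trans h1

include hπ in
theorem intNum_eq [ConnectedSpace C] (hE : FlatMod.IsFinLocFreeOfRank (r + 1) E)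
    (hP : KRR.IsProjBundle π E O1 q) (hOm : FlatMod.IsFinLocFree Om)
    (hOOm : Nonempty (((DCoh.tensorBi (X := P)).obj O1).obj Om ≅ Coh.structureModule P))
    {D D' : C.Modules} (hD : ExtPow.IsExtPow (r + 1) E D) (hDf : FlatMod.IsFinLocFree D)
    (hD' : FlatMod.IsFinLocFree D')
    (hDD' : Nonempty (((DCoh.tensorBi (X := C)).obj D).obj D' ≅ Coh.structureModule C))
    (d : ℕ) (hd : topologicalKrullDim P ≤ d) :
    FGA.intNum k P d (fun _ : Fin (r + 1) => Om) (Coh.structureModule P) =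
      Curv2.euler k C (Coh.structureModule C) - Curv2.euler k C D' := by
  have := Vancyc.H175.Leray.isNoetherian k P
  have hφ : ∀ j : ℕ, chiCl k P d (Coh.structureModule P) (mc Om ^ j) = Curv2.euler k P (W Om j) := by
    intro j
    rw [← mc_W, chiCl_mc, euler_iso k P (Ega2.Tens.runit (W Om j)) d]
    exact Fga.EulerLEAdd.eulerCharLE_eq_euler k P d hd _
  have hW := euler_W' k hπ hE hP hOm hOOm
  rw [intNum_eq_dSum, dSum_const]
  · have h0 := hφ 0
    rw [pow_zero] at h0
    rw [h0, hφ, hW 0 (Nat.zero_le _), if_pos rfl, euler_top k hπ hE hP hOm hOOm hD hDf hD' hDD']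
    ring
  · intro j h1 h2
    rw [hφ, hW j h2, if_neg (by omega)]

end

end K285.PBInt
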